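import Cfsg.Agent.H360.ON.Sys

/-!
# Abelian families: elations
-/

set_option autoImplicit false

namespace Cfsg.Agent.H360.ON

open Subgroup MulAction

variable {G X : Type*} [Group G] [MulAction G X]

/-- equivariant family of abelian subgroups meeting pairwise trivially -/
structure Ab (N : X → Subgroup G) : Prop extends Sys N where
  comm : ∀ a, ∀ x ∈ N a, ∀ y ∈ N a, x * y = y * x

variable {N : X → Subgroup G}

/-- the fixed points -/
def Fx (X : Type*) {G : Type*} [Group G] [MulAction G X] (x : G) : Set X := {c | x • c = c}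

omit [Group G] [MulAction G X] in
theorem mem_Fx {G : Type*} [Group G] [MulAction G X] {x : G} {c : X} : c ∈ Fx X x ↔ x • c = c := Iff.rfl

theorem Fx_conj_ncard (g x : G) : (Fx X (g * x * g⁻¹)).ncard = (Fx X x).ncard := by
  have h : Fx X (g * x * g⁻¹) = (fun c => g • c) '' Fx X x := by
    ext c
    constructor
    · intro hc
      refine ⟨g⁻¹ • c, ?_, smul_inv_smul g c⟩
      show x • g⁻¹ • c = g⁻¹ • c
      rw [eq_inv_smul_iff, ← mul_smul, ← mul_smul]
      exact hc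
    · rintro ⟨d, hd, rfl⟩
      show (g * x * g⁻¹) • g • d = g • d
      rw [mul_smul, mul_smul, inv_smul_smul, mem_Fx.1 hd]
  rw [h]
  exact Set.ncard_image_of_injective _ (MulAction.injective g)

namespace Ab

variable (S : Ab N)
include S

/-- elements of `N a` preserve the lines through `a` -/
theorem pres {a b c : X} {x : G} (hx : x ∈ N a) (h : OnLine N a b c) : OnLine N a b (x • c) := by
  intro y hy
  rw [← mul_smul, S.comm a y hy.1 x hx, mul_smul, h y hy]

/-- an element fixing two points `c`, `d` and preserving all lines through a third point `a` off the line `cd` fixes the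
line pointwise -/
theorem fix_line [Finite G] {a c d e : X} {x : G} (hx : x ∈ N a) (hcd : c ≠ d) (ha : ¬ OnLine N c d a)
    (hc : x • c = c) (hd : x • d = d) (he : OnLine N c d e) : x • e = e := by
  by_contra hne
  apply ha
  have hea : e ≠ a := by
    rintro rfl
    exact hne (S.fix _ x hx)
  have h1 : OnLine N c d (x • e) := by
    have h2 := (S.onLine_smul x).2 he
    rwa [hc, hd] at h2
  have h2 : OnLine N a e (x • e) := S.pres hx Sys.onLine_right
  have h3 : OnLine N e (x • e) a ↔ OnLine N a e a := S.onLine_congr hea.symm (Ne.symm hne) Sys.onLine_right h2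
  have h4 : OnLine N e (x • e) a ↔ OnLine N c d a := S.onLine_congr hcd (Ne.symm hne) he h1
  rw [← h4, h3]
  exact S.onLine_left

theorem br_mem [Finite G] {a b : X} (hab : a ≠ b) {v y : G} (hv : v ∈ N a) (hy : y ∈ A N b a) :
    v * y * v⁻¹ * y⁻¹ ∈ A N a b := by
  constructor
  · have h2 := S.mem_stab_conj (a := a) (x := v⁻¹) (y := y) (inv_mem hv) hy.2
    have h3 : v * y * v⁻¹ * y⁻¹ = v * (y * v⁻¹ * y⁻¹) := by group
    rw [h3]
    exact mul_mem hv h2
  · show (v * y * v⁻¹ * y⁻¹) • b = b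
    have h1 : y⁻¹ • b = b := S.fix b _ (inv_mem hy.1)
    have h2 : OnLine N b a (v⁻¹ • b) := S.onLine_swap hab (S.pres (inv_mem hv) Sys.onLine_right)
    rw [mul_smul, h1, mul_smul, mul_smul, h2 y hy, smul_inv_smul]

theorem br_mul_right [Finite G] {a b : X} (hab : a ≠ b) {v y y' : G} (hv : v ∈ N a) (hy : y ∈ A N b a)
    (hy' : y' ∈ A N b a) : v * (y * y') * v⁻¹ * (y * y')⁻¹ = (v * y * v⁻¹ * y⁻¹) * (v * y' * v⁻¹ * y'⁻¹) := by
  have h1 := S.comm_AB hab (S.br_mem hab hv hy') hy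
  have h2 : v * (y * y') * v⁻¹ * (y * y')⁻¹ = (v * y * v⁻¹) * ((v * y' * v⁻¹ * y'⁻¹) * y⁻¹) := by group
  have h3 : (v * y' * v⁻¹ * y'⁻¹) * y⁻¹ = y⁻¹ * (v * y' * v⁻¹ * y'⁻¹) := by
    rw [mul_inv_eq_iff_eq_mul, mul_assoc y⁻¹, h1]; group
  rw [h2, h3]; group

theorem br_mul_left [Finite G] {a b : X} {v v' y : G} (hv : v ∈ N a) (hv' : v' ∈ N a) (hy : y ∈ A N b a) :
    (v * v') * y * (v * v')⁻¹ * y⁻¹ = (v * y * v⁻¹ * y⁻¹) * (v' * y * v'⁻¹ * y⁻¹) := by
  have h0 : ∀ w ∈ N a, w * y * w⁻¹ * y⁻¹ ∈ N a := by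
    intro w hw
    have h2 := S.mem_stab_conj (a := a) (x := w⁻¹) (y := y) (inv_mem hw) hy.2
    have h3 : w * y * w⁻¹ * y⁻¹ = w * (y * w⁻¹ * y⁻¹) := by group
    rw [h3]
    exact mul_mem hw h2
  have h1 : (v * v') * y * (v * v')⁻¹ * y⁻¹ = v * (v' * y * v'⁻¹ * y⁻¹) * v⁻¹ * (v * y * v⁻¹ * y⁻¹) := by group
  rw [h1, S.comm a v hv _ (h0 v' hv')]
  have h2 := S.comm a _ (h0 v' hv') _ (h0 v hv)
  rw [← h2]; group

theorem br_ne_one {a b : X} {v y : G} (hv : v • b ≠ b) (hy : y ∈ A N b a) (hy1 : y ≠ 1) :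
    v * y * v⁻¹ * y⁻¹ ≠ 1 := by
  intro h
  have h1 := mul_inv_eq_one.1 h
  exact hv (S.cent hy.1 hy1 (mul_inv_eq_iff_eq_mul.1 h1))

theorem br_eq_one [Finite G] {a b : X} (hab : a ≠ b) {v y : G} (hv : v ∈ A N a b) (hy : y ∈ A N b a) :
    v * y * v⁻¹ * y⁻¹ = 1 := by
  rw [S.comm_AB hab hv hy]; group

/-- some element of `N a` moves `b` -/
theorem exists_moves [FaithfulSMul G X] {a b : X} (hab : a ≠ b) : ∃ v ∈ N a, v • b ≠ b := by
  by_contra h
  push Not at h
  obtain ⟨x, hx, hx1⟩ := S.exists_ne_one hab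
  apply hx1
  apply FaithfulSMul.eq_of_smul_eq_smul (α := X)
  intro c
  rw [one_smul]
  by_cases hca : c = a
  · rw [hca]; exact S.fix a x hx.1
  obtain ⟨g, hg1, hg2⟩ := S.two a b a c hab (Ne.symm hca)
  have h1 := S.conj g⁻¹ a x hx.1
  have h3 : g⁻¹ • a = a := by rw [inv_smul_eq_iff, hg1]
  rw [h3] at h1
  have h2 := h _ h1
  rw [← hg2]
  rw [inv_inv, mul_smul, mul_smul, inv_smul_eq_iff] at h2
  exact h2

/-- the fixed points of `y` are fixed by the commutator -/
theorem Fx_subset [Finite G] {a b : X} (hab : a ≠ b) {v y : G} (hv : v ∈ N a) (hy : y ∈ A N b a) :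
    Fx X y ⊆ Fx X (v * y * v⁻¹ * y⁻¹) := by
  intro c hc
  rw [mem_Fx] at hc ⊢
  by_cases hl : OnLine N a b c
  · exact hl _ (S.br_mem hab hv hy)
  have hca : c ≠ a := by
    rintro rfl
    exact hl S.onLine_left
  have hac := hca.symm
  have hb : ¬ OnLine N a c b := by
    intro h
    apply hl
    rw [S.onLine_congr hac hab S.onLine_left h]
    exact Sys.onLine_right
  have hy' : y⁻¹ • c = c := by rw [inv_smul_eq_iff, hc]
  have h1 : OnLine N a c (v⁻¹ • c) := S.pres (inv_mem hv) Sys.onLine_right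
  have h2 : y • v⁻¹ • c = v⁻¹ • c := S.fix_line hy.1 hac hb hy.2 hc h1
  rw [mul_smul, hy', mul_smul, mul_smul, h2, smul_inv_smul]

/-- the bijection `y ↦ [v, y]` -/
theorem exists_equiv [Finite G] {a b : X} (hab : a ≠ b) {v : G} (hv : v ∈ N a) (hvb : v • b ≠ b) :
    ∃ E : A N b a ≃ A N a b, ∀ y, (E y).1 = v * y.1 * v⁻¹ * y.1⁻¹ := by
  let f : A N b a → A N a b := fun y => ⟨_, S.br_mem hab hv y.2⟩
  have hf : Function.Injective f := by
    intro y y' h
    have h1 : v * y.1 * v⁻¹ * y.1⁻¹ = v * y'.1 * v⁻¹ * y'.1⁻¹ := congrArg Subtype.val h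
    by_contra hne
    have hz : y.1⁻¹ * y'.1 ∈ A N b a := mul_mem (inv_mem y.2) y'.2
    have hz1 : y.1⁻¹ * y'.1 ≠ 1 := by
      intro h2
      exact hne (Subtype.ext (inv_mul_eq_one.1 h2))
    apply S.br_ne_one hvb hz hz1
    have h2 : y' = y * (y⁻¹ * y') := by group
    have h3 := S.br_mul_right hab hv y.2 hz
    have h4 : y.1 * (y.1⁻¹ * y'.1) = y'.1 := by group
    rw [h4, ← h1] at h3
    exact (mul_eq_left.1 h3.symm)
  have hcard : Nat.card (A N b a) = Nat.card (A N a b) := S.card_A hab.symm hab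
  exact ⟨Equiv.ofBijective f ((Nat.bijective_iff_injective_and_card f).2 ⟨hf, hcard⟩), fun y => rfl⟩

/-- the fixed points of `y` and of the commutator agree -/
theorem Fx_eq [Finite G] [Finite X] {a b : X} (hab : a ≠ b) {v y : G} (hv : v ∈ N a) (hvb : v • b ≠ b)
    (hy : y ∈ A N b a) : Fx X (v * y * v⁻¹ * y⁻¹) = Fx X y := by
  classical
  obtain ⟨E, hE⟩ := S.exists_equiv hab hv hvb
  obtain ⟨g, hg1, hg2⟩ := S.two a b b a hab hab.symm
  -- conjugation by `g`
  let f' : A N a b → A N b a := fun x => ⟨g * x.1 * g⁻¹, by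
    have := (S.conj_A g a b x.1).2 x.2
    rwa [hg1, hg2] at this⟩
  have hf' : Function.Injective f' := by
    intro x x' h
    have h1 : g * x.1 * g⁻¹ = g * x'.1 * g⁻¹ := congrArg Subtype.val h
    exact Subtype.ext (mul_left_cancel (mul_right_cancel h1))
  have hcard : Nat.card (A N a b) = Nat.card (A N b a) := S.card_A hab hab.symm
  let E' : A N a b ≃ A N b a :=
    Equiv.ofBijective f' ((Nat.bijective_iff_injective_and_card f').2 ⟨hf', hcard⟩)
  let _ : Fintype (A N a b) := Fintype.ofFinite _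
  let _ : Fintype (A N b a) := Fintype.ofFinite _
  have h1 : ∑ y : A N b a, (Fx X (E y).1).ncard = ∑ y : A N b a, (Fx X y.1).ncard := by
    rw [Equiv.sum_comp E (fun x : A N a b => (Fx X x.1).ncard), ← Equiv.sum_comp E' (fun x : A N b a => (Fx X x.1).ncard)]
    refine Finset.sum_congr rfl (fun x _ => ?_)
    exact (Fx_conj_ncard g x.1).symm
  have hle : ∀ y ∈ (Finset.univ : Finset (A N b a)), (Fx X y.1).ncard ≤ (Fx X (E y).1).ncard := by
    intro y _
    rw [hE]
    exact Set.ncard_le_ncard (S.Fx_subset hab hv y.2) (Set.toFinite _)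
  have h2 := (Finset.sum_eq_sum_iff_of_le hle).1 h1.symm ⟨y, hy⟩ (Finset.mem_univ _)
  have h3 := Set.eq_of_subset_of_ncard_le (S.Fx_subset hab hv hy) (by
    rw [hE] at h2
    exact h2.ge) (Set.toFinite _)
  exact h3.symm

/-- the size of the orbits -/
theorem card_orbit [Finite G] [Finite X] (a b : X) :
    Nat.card {c : X // ∃ x ∈ N a, x • b = c} * Nat.card (A N a b) = Nat.card (N a) := by
  classical
  let _ : Fintype (N a) := Fintype.ofFinite _
  have h1 := Nat.card_congr (MulAction.orbitProdStabilizerEquivGroup (N a) b)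
  rw [Nat.card_prod] at h1
  rw [← h1]
  congr 1
  · refine Nat.card_congr (Equiv.subtypeEquivRight (fun c => ?_))
    constructor
    · rintro ⟨x, hx, rfl⟩
      exact ⟨⟨x, hx⟩, rfl⟩
    · rintro ⟨x, rfl⟩
      exact ⟨x.1, x.2, rfl⟩
  · refine Nat.card_congr ⟨fun x => ⟨⟨x.1, x.2.1⟩, x.2.2⟩, fun x => ⟨x.1.1, x.1.2, x.2⟩, fun x => rfl, fun x => rfl⟩

end Ab

end Cfsg.Agent.H360.ON
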