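import Cfsg.Agent.H360.ON.Ab

/-!
# Abelian families: lines have `q + 1` points
-/

set_option autoImplicit false

namespace Cfsg.Agent.H360.ON

open Subgroup MulAction

variable {G X : Type*} [Group G] [MulAction G X] {N : X → Subgroup G}

theorem card_orbit_eq [Finite G] (a b c d : X) (hN : Nat.card (N a) = Nat.card (N c))
    (hA : Nat.card (A N a b) = Nat.card (A N c d))
    (h1 : Nat.card {e : X // ∃ x ∈ N a, x • b = e} * Nat.card (A N a b) = Nat.card (N a))
    (h2 : Nat.card {e : X // ∃ x ∈ N c, x • d = e} * Nat.card (A N c d) = Nat.card (N c)) :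
    Nat.card {e : X // ∃ x ∈ N a, x • b = e} = Nat.card {e : X // ∃ x ∈ N c, x • d = e} := by
  rw [hN, ← h2, hA] at h1
  exact Nat.eq_of_mul_eq_mul_right Nat.card_pos h1

namespace Ab

variable (S : Ab N)
include S

/-- the size of the orbits of `N a` -/
theorem exists_q [Finite G] [Finite X] [FaithfulSMul G X] : ∃ q, 2 ≤ q ∧ ∀ a b : X, a ≠ b →
    Nat.card {c : X // ∃ x ∈ N a, x • b = c} = q ∧ Nat.card (N a) = q * Nat.card (A N a b) := by
  obtain ⟨a, b, hab, -⟩ := S.nsr
  refine ⟨Nat.card {c : X // ∃ x ∈ N a, x • b = c}, ?_, ?_⟩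
  · obtain ⟨v, hv, hvb⟩ := S.exists_moves hab
    have : Nontrivial {c : X // ∃ x ∈ N a, x • b = c} :=
      ⟨⟨⟨v • b, v, hv, rfl⟩, ⟨b, 1, one_mem _, one_smul _ _⟩, fun h => hvb (congrArg Subtype.val h)⟩⟩
    exact Finite.one_lt_card
  · intro c d hcd
    have h1 := card_orbit_eq c d a b (S.card_N c a) (S.card_A hcd hab) (S.card_orbit c d) (S.card_orbit a b)
    refine ⟨h1, ?_⟩
    rw [← h1]
    exact (S.card_orbit c d).symm

/-- the subgroup `[N a, y]` -/
theorem exists_U [Finite G] [Finite X] [FaithfulSMul G X] {a b : X} (hab : a ≠ b) {x : G} (hx : x ∈ A N a b)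
    (hx1 : x ≠ 1) : ∃ U : Subgroup G, U ≤ N a ∧ Nat.card U * Nat.card (A N a b) = Nat.card (N a) ∧
      ∀ u ∈ U, u ≠ 1 → Fx X u = Fx X x := by
  obtain ⟨v, hv, hvb⟩ := S.exists_moves hab
  obtain ⟨E, hE⟩ := S.exists_equiv hab hv hvb
  obtain ⟨y, hy⟩ := E.surjective ⟨x, hx⟩
  have hyx : v * y.1 * v⁻¹ * y.1⁻¹ = x := by rw [← hE, hy]
  have hy1 : y.1 ≠ 1 := by
    intro h
    apply hx1
    rw [← hyx, h]; group
  have hFx : Fx X x = Fx X y.1 := by
    rw [← hyx]
    exact S.Fx_eq hab hv hvb y.2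
  let φ : N a →* G := MonoidHom.mk' (fun w => w.1 * y.1 * w.1⁻¹ * y.1⁻¹)
    (fun w w' => S.br_mul_left w.2 w'.2 y.2)
  refine ⟨φ.range, ?_, ?_, ?_⟩
  · rintro _ ⟨w, rfl⟩
    exact (S.br_mem hab w.2 y.2).1
  · have h1 : Nat.card φ.range * Nat.card φ.ker = Nat.card (N a) := by
      rw [← Nat.card_congr (QuotientGroup.quotientKerEquivRange φ).toEquiv]
      exact (Subgroup.card_eq_card_quotient_mul_card_subgroup φ.ker).symm
    rw [← h1]
    congr 1
    refine Nat.card_congr ⟨fun w => ⟨⟨w.1, w.2.1⟩, ?_⟩, fun w => ⟨w.1.1, w.1.2, ?_⟩, fun w => rfl, fun w => rfl⟩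
    · rw [MonoidHom.mem_ker]
      exact S.br_eq_one hab w.2 y.2
    · by_contra hwb
      exact S.br_ne_one hwb y.2 hy1 (MonoidHom.mem_ker.1 w.2)
  · rintro _ ⟨w, rfl⟩ hw
    have hwb : w.1 • b ≠ b := by
      intro h
      exact hw (S.br_eq_one hab ⟨w.2, h⟩ y.2)
    rw [hFx]
    exact S.Fx_eq hab w.2 hwb y.2

/-- decomposition of `N a` -/
theorem decomp [Finite G] [Finite X] [FaithfulSMul G X] {a b d : X} (hab : a ≠ b) {x : G} (hx : x ∈ A N a b)
    (hxd : x • d ≠ d) : ∃ U : Subgroup G, U ≤ N a ∧ (∀ u ∈ U, u ≠ 1 → Fx X u = Fx X x) ∧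
      ∀ w ∈ N a, ∃ u ∈ U, ∃ z ∈ A N a d, w = u * z := by
  have hx1 : x ≠ 1 := by
    rintro rfl
    exact hxd (one_smul _ _)
  have had : a ≠ d := by
    rintro rfl
    exact hxd (S.fix a x hx.1)
  obtain ⟨U, hU, hc, hF⟩ := S.exists_U hab hx hx1
  refine ⟨U, hU, hF, ?_⟩
  have hdisj : ∀ u ∈ U, u ∈ A N a d → u = 1 := by
    intro u hu hud
    by_contra hu1
    have h1 : d ∈ Fx X u := hud.2
    rw [hF u hu hu1] at h1
    exact hxd h1
  -- the product map is injective
  let f : U × A N a d → N a := fun p => ⟨p.1.1 * p.2.1, mul_mem (hU p.1.2) p.2.2.1⟩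
  have hf : Function.Injective f := by
    rintro ⟨u, z⟩ ⟨u', z'⟩ h
    have h1 : u.1 * z.1 = u'.1 * z'.1 := congrArg Subtype.val h
    have h2 : u'.1⁻¹ * u.1 = z'.1 * z.1⁻¹ := by
      rw [inv_mul_eq_iff_eq_mul, ← mul_assoc, ← h1]; group
    have h3 : u'.1⁻¹ * u.1 = 1 := by
      apply hdisj _ (mul_mem (inv_mem u'.2) u.2)
      rw [h2]
      exact mul_mem z'.2 (inv_mem z.2)
    have h4 : u = u' := Subtype.ext (inv_mul_eq_one.1 h3).symm
    subst h4
    have h5 : z = z' := Subtype.ext (mul_left_cancel h1)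
    rw [h5]
  have hcard : Nat.card (U × A N a d) = Nat.card (N a) := by
    rw [Nat.card_prod, ← hc, S.card_A had hab]
  have hsurj := ((Nat.bijective_iff_injective_and_card f).2 ⟨hf, hcard⟩).2
  intro w hw
  obtain ⟨⟨u, z⟩, h⟩ := hsurj ⟨w, hw⟩
  exact ⟨u.1, u.2, z.1, z.2, (congrArg Subtype.val h).symm⟩

/-- `A a c` is transitive on the orbit of `d`, if `d` is not on the line `a c` -/
theorem exists_same [Finite G] [Finite X] [FaithfulSMul G X] {a c d : X} (hac : a ≠ c) (hd : ¬ OnLine N a c d)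
    {w : G} (hw : w ∈ N a) : ∃ y ∈ A N a c, y • d = w • d := by
  unfold OnLine at hd
  push Not at hd
  obtain ⟨x, hx, hxd⟩ := hd
  obtain ⟨U, hU, hF, hdec⟩ := S.decomp hac hx hxd
  obtain ⟨u, hu, z, hz, rfl⟩ := hdec w hw
  refine ⟨u, ⟨hU hu, ?_⟩, ?_⟩
  · by_cases hu1 : u = 1
    · rw [hu1]; exact one_smul _ _
    · have h1 : c ∈ Fx X x := hx.2
      rw [← hF u hu hu1] at h1
      exact h1
  · rw [mul_smul, hz.2]

/-- the pointwise stabilizer of a line off `a` has index `q^2` -/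
theorem card_inf [Finite G] [Finite X] [FaithfulSMul G X] {q : ℕ} {a c d : X} (hac : a ≠ c)
    (hd : ¬ OnLine N a c d) (hq : Nat.card {e : X // ∃ x ∈ N a, x • d = e} = q) :
    Nat.card (A N a c) = q * Nat.card ↥(A N a c ⊓ A N a d) := by
  classical
  have h1 := Nat.card_congr (MulAction.orbitProdStabilizerEquivGroup (A N a c) d)
  rw [Nat.card_prod] at h1
  rw [← h1, ← hq]
  congr 1
  · refine Nat.card_congr (Equiv.subtypeEquivRight (fun e => ?_))
    constructor
    · rintro ⟨x, rfl⟩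
      exact ⟨x.1, x.2.1, rfl⟩
    · rintro ⟨x, hx, rfl⟩
      obtain ⟨y, hy, hyd⟩ := S.exists_same hac hd hx
      exact ⟨⟨y, hy⟩, hyd⟩
  · refine Nat.card_congr ⟨fun x => ⟨x.1.1, x.1.2, x.1.2.1, x.2⟩, fun x => ⟨⟨x.1, x.2.1⟩, x.2.2.2⟩, fun x => rfl, fun x => rfl⟩

omit S in
theorem card_sdiff {H C : Subgroup G} [Finite G] (hle : C ≤ H) :
    Nat.card {x : G // x ∈ H ∧ x ∉ C} + Nat.card C = Nat.card H := by
  classical
  have h1 : Nat.card {x : G // x ∈ H ∧ x ∉ C} = ((H : Set G) \ (C : Set G)).ncard := rfl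
  have h2 : Nat.card C = (C : Set G).ncard := rfl
  have h3 : Nat.card H = (H : Set G).ncard := rfl
  rw [h1, h2, h3]
  exact Set.ncard_sdiff_add_ncard_of_subset hle (Set.toFinite _)

/-- counting on a line -/
theorem line_card_le [Finite G] [Finite X] [FaithfulSMul G X] {q : ℕ} (hq2 : 2 ≤ q)
    (hq : ∀ a b : X, a ≠ b →
      Nat.card {c : X // ∃ x ∈ N a, x • b = c} = q ∧ Nat.card (N a) = q * Nat.card (A N a b)) {a c d : X} (hcd : c ≠ d)
    (ha : ¬ OnLine N c d a) : Nat.card {e : X // OnLine N c d e} ≤ q + 1 ∧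
      (Nat.card {e : X // OnLine N c d e} = q + 1 → ∀ x ∈ N a, ∃ e, OnLine N c d e ∧ x • e = e) := by
  classical
  have hac : a ≠ c := by
    rintro rfl
    exact ha S.onLine_left
  have hd : ¬ OnLine N a c d := by
    intro h
    apply ha
    have h1 : OnLine N c a d := S.onLine_swap hac h
    rw [S.onLine_congr hac.symm hcd S.onLine_left h1]
    exact Sys.onLine_right
  have had : a ≠ d := by
    rintro rfl
    exact ha Sys.onLine_right
  set C := A N a c ⊓ A N a d with hC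
  have hk : Nat.card (A N a c) = q * Nat.card C := S.card_inf hac hd (hq a d had).1
  have hae : ∀ e, OnLine N c d e → a ≠ e := by
    rintro e he rfl
    exact ha he
  have hCe : ∀ e, OnLine N c d e → C ≤ A N a e := by
    intro e he x hx
    exact ⟨hx.1.1, S.fix_line hx.1.1 hcd ha hx.1.2 hx.2.2 he⟩
  have hCee : ∀ e e', OnLine N c d e → OnLine N c d e' → e ≠ e' → ∀ x ∈ A N a e, x ∈ A N a e' → x ∈ C := by
    intro e e' he he' hne x hx hx'
    have ha' : ¬ OnLine N e e' a := by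
      rw [S.onLine_congr hcd hne he he']
      exact ha
    refine ⟨⟨hx.1, S.fix_line hx.1 hne ha' hx.2 hx'.2 ?_⟩, ⟨hx.1, S.fix_line hx.1 hne ha' hx.2 hx'.2 ?_⟩⟩
    · rw [S.onLine_congr hcd hne he he']
      exact S.onLine_left
    · rw [S.onLine_congr hcd hne he he']
      exact Sys.onLine_right
  have hkpos : 0 < Nat.card C := Nat.card_pos
  set k := Nat.card C with hkdef
  let _ : Fintype {e : X // OnLine N c d e} := Fintype.ofFinite _
  let f : (Σ e : {e : X // OnLine N c d e}, {x : G // x ∈ A N a e.1 ∧ x ∉ C}) → {x : G // x ∈ N a ∧ x ∉ C} :=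
    fun p => ⟨p.2.1, p.2.2.1.1, p.2.2.2⟩
  have hf : Function.Injective f := by
    rintro ⟨e, x⟩ ⟨e', x'⟩ h
    have h1 : x.1 = x'.1 := congrArg Subtype.val h
    have h2 : e = e' := by
      by_contra hne
      apply x.2.2
      refine hCee e.1 e'.1 e.2 e'.2 (fun h => hne (Subtype.ext h)) x.1 x.2.1 ?_
      rw [h1]
      exact x'.2.1
    subst h2
    have h3 : x = x' := Subtype.ext h1
    rw [h3]
  have hcardL : Nat.card (Σ e : {e : X // OnLine N c d e}, {x : G // x ∈ A N a e.1 ∧ x ∉ C}) =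
      Nat.card {e : X // OnLine N c d e} * (q * k - k) := by
    rw [Nat.card_sigma]
    have h1 : ∀ e : {e : X // OnLine N c d e}, Nat.card {x : G // x ∈ A N a e.1 ∧ x ∉ C} = q * k - k := by
      intro e
      have h2 := card_sdiff (hCe e.1 e.2)
      rw [S.card_A (hae e.1 e.2) hac, hk] at h2
      omega
    rw [Finset.sum_congr rfl (fun e _ => h1 e), Finset.sum_const, smul_eq_mul, Finset.card_univ,
      ← Nat.card_eq_fintype_card]
  have hcardR : Nat.card {x : G // x ∈ N a ∧ x ∉ C} = (q + 1) * (q * k - k) := by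
    have h2 := card_sdiff (H := N a) (C := C) (fun x hx => hx.1.1)
    rw [(hq a c hac).2, hk, ← hkdef] at h2
    have h3 : (q + 1) * (q * k - k) + k = q * (q * k) := by
      obtain ⟨r, rfl⟩ : ∃ r, q = r + 1 := ⟨q - 1, by omega⟩
      have h4 : (r + 1) * k - k = r * k := by rw [Nat.add_mul, one_mul, Nat.add_sub_cancel]
      rw [h4]
      ring
    omega
  have hpos : 0 < q * k - k := by
    have : 2 * k ≤ q * k := Nat.mul_le_mul_right k hq2
    omega
  constructor
  · have h1 := Nat.card_le_card_of_injective f hf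
    rw [hcardL, hcardR] at h1
    exact Nat.le_of_mul_le_mul_right h1 hpos
  · intro hM x hx
    by_cases hxC : x ∈ C
    · exact ⟨c, S.onLine_left, hxC.1.2⟩
    · have hsurj := ((Nat.bijective_iff_injective_and_card f).2 ⟨hf, by rw [hcardL, hcardR, hM]⟩).2
      obtain ⟨⟨e, y⟩, hy⟩ := hsurj ⟨x, hx, hxC⟩
      have h1 : y.1 = x := congrArg Subtype.val hy
      exact ⟨e.1, e.2, h1 ▸ y.2.1.2⟩

/-- lines have `q + 1` points and `N c` is transitive on the other points of a line through `c` -/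
theorem line_trans [Finite G] [Finite X] [FaithfulSMul G X] {q : ℕ} (hq2 : 2 ≤ q)
    (hq : ∀ a b : X, a ≠ b →
      Nat.card {c : X // ∃ x ∈ N a, x • b = c} = q ∧ Nat.card (N a) = q * Nat.card (A N a b)) {c d : X} (hcd : c ≠ d) :
    Nat.card {e : X // OnLine N c d e} = q + 1 ∧ ∀ e, OnLine N c d e → e ≠ c → ∃ x ∈ N c, x • d = e := by
  classical
  obtain ⟨a, ha⟩ := S.exists_off hcd
  have hle := (S.line_card_le hq2 hq hcd ha).1
  -- the orbit of `d` and the point `c`
  let f : Option {e : X // ∃ x ∈ N c, x • d = e} → {e : X // OnLine N c d e} := fun o =>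
    match o with
    | none => ⟨c, S.onLine_left⟩
    | some e => ⟨e.1, by
        obtain ⟨x, hx, h⟩ := e.2
        rw [← h]
        exact S.pres hx Sys.onLine_right⟩
  have hne : ∀ e : {e : X // ∃ x ∈ N c, x • d = e}, e.1 ≠ c := by
    rintro ⟨e, x, hx, rfl⟩ h
    apply hcd
    have h1 : x • d = x • c := h.trans (S.fix c x hx).symm
    exact ((smul_left_cancel_iff x).1 h1).symm
  have hf : Function.Injective f := by
    rintro (_ | e) (_ | e') h
    · rfl
    · exact absurd (congrArg Subtype.val h).symm (hne e')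
    · exact absurd (congrArg Subtype.val h) (hne e)
    · have h2 : e.1 = e'.1 := congrArg (fun z : {e : X // OnLine N c d e} => z.1) h
      rw [Subtype.ext h2]
  let _ : Fintype {e : X // ∃ x ∈ N c, x • d = e} := Fintype.ofFinite _
  have hcard : Nat.card (Option {e : X // ∃ x ∈ N c, x • d = e}) = q + 1 := by
    rw [Nat.card_eq_fintype_card, Fintype.card_option, ← Nat.card_eq_fintype_card, (hq c d hcd).1]
  have h1 := Nat.card_le_card_of_injective f hf
  rw [hcard] at h1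
  have hM : Nat.card {e : X // OnLine N c d e} = q + 1 := le_antisymm hle h1
  refine ⟨hM, ?_⟩
  have hsurj := ((Nat.bijective_iff_injective_and_card f).2 ⟨hf, by rw [hcard, hM]⟩).2
  intro e he hec
  obtain ⟨o, ho⟩ := hsurj ⟨e, he⟩
  match o, ho with
  | none, ho => exact absurd (congrArg Subtype.val ho).symm hec
  | some e', ho =>
    obtain ⟨x, hx, h⟩ := e'.2
    exact ⟨x, hx, h.trans (congrArg Subtype.val ho)⟩

/-- each element of `N a` fixes a point of each line off `a` -/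
theorem exists_fixed [Finite G] [Finite X] [FaithfulSMul G X] {a c d : X} (hcd : c ≠ d)
    (ha : ¬ OnLine N c d a) {x : G} (hx : x ∈ N a) : ∃ e, OnLine N c d e ∧ x • e = e := by
  obtain ⟨q, hq2, hq⟩ := S.exists_q
  exact (S.line_card_le hq2 hq hcd ha).2 (S.line_trans hq2 hq hcd).1 x hx

theorem trans [Finite G] [Finite X] [FaithfulSMul G X] {c d e : X} (hcd : c ≠ d)
    (he : OnLine N c d e) (hec : e ≠ c) : ∃ x ∈ N c, x • d = e := by
  obtain ⟨q, hq2, hq⟩ := S.exists_q
  exact (S.line_trans hq2 hq hcd).2 e he hec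

/-- lines have at least three points -/
theorem exists_third [Finite G] [Finite X] [FaithfulSMul G X] {c d : X} (hcd : c ≠ d) :
    ∃ e, OnLine N c d e ∧ e ≠ c ∧ e ≠ d := by
  obtain ⟨v, hv, hvd⟩ := S.exists_moves hcd
  refine ⟨v • d, S.pres hv Sys.onLine_right, ?_, hvd⟩
  intro h
  apply hcd
  have h1 : v • d = v • c := h.trans (S.fix c v hv).symm
  exact ((smul_left_cancel_iff v).1 h1).symm

end Ab

end Cfsg.Agent.H360.ON
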