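import Cfsg.Agent.H360.ON.Ab2

/-!
# Subspaces, frames and root groups
-/

set_option autoImplicit false

namespace Cfsg.Agent.H360.ON

open Subgroup MulAction

variable {G X : Type*} [Group G] [MulAction G X] {N : X → Subgroup G}

/-- sets of points closed under lines -/
def IsSub (N : X → Subgroup G) (T : Set X) : Prop :=
  ∀ a ∈ T, ∀ b ∈ T, a ≠ b → ∀ c, OnLine N a b c → c ∈ T

/-- the subspace generated by a set -/
def sp (N : X → Subgroup G) (T : Set X) : Set X := ⋂₀ {U | IsSub N U ∧ T ⊆ U}

theorem subset_sp (T : Set X) : T ⊆ sp N T := by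
  intro c hc U hU
  exact hU.2 hc

theorem isSub_sp (T : Set X) : IsSub N (sp N T) := by
  intro a ha b hb hab c hc U hU
  exact hU.1 a (ha U hU) b (hb U hU) hab c hc

theorem sp_le {T U : Set X} (hU : IsSub N U) (h : T ⊆ U) : sp N T ⊆ U := fun _ hc => hc U ⟨hU, h⟩

theorem sp_mono {T U : Set X} (h : T ⊆ U) : sp N T ⊆ sp N U := sp_le (isSub_sp U) (h.trans (subset_sp U))

/-- the root subgroups of a family of points -/
def Xr {ι : Type*} (N : X → Subgroup G) (p : ι → X) (i j : ι) : Subgroup G where
  carrier := {x | x ∈ N (p i) ∧ ∀ k, k ≠ j → x • p k = p k}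
  mul_mem' := by
    rintro x y ⟨hx, hx'⟩ ⟨hy, hy'⟩
    exact ⟨mul_mem hx hy, fun k hk => by rw [mul_smul, hy' k hk, hx' k hk]⟩
  one_mem' := ⟨one_mem _, fun k _ => one_smul _ _⟩
  inv_mem' := by
    rintro x ⟨hx, hx'⟩
    exact ⟨inv_mem hx, fun k hk => by rw [inv_smul_eq_iff, hx' k hk]⟩

theorem mem_Xr {ι : Type*} {p : ι → X} {i j : ι} {x : G} :
    x ∈ Xr N p i j ↔ x ∈ N (p i) ∧ ∀ k, k ≠ j → x • p k = p k := Iff.rfl

/-- a frame -/
structure Frame {ι : Type*} (N : X → Subgroup G) (p : ι → X) : Prop where
  span : sp N (Set.range p) = Set.univ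
  indep : ∀ j, p j ∉ sp N (p '' {k | k ≠ j})

namespace Ab

variable (S : Ab N)
include S

theorem isSub_Fx [Finite G] {a : X} {x : G} (hx : x ∈ N a) : IsSub N (Fx X x) := by
  intro c hc d hd hcd e he
  rw [mem_Fx] at hc hd ⊢
  by_cases ha : OnLine N c d a
  · by_cases hca : c = a
    · subst hca
      exact he x ⟨hx, hd⟩
    · have h1 : OnLine N a c e := by
        rw [S.onLine_congr hcd (Ne.symm hca) ha S.onLine_left]
        exact he
      exact h1 x ⟨hx, hc⟩
  · exact S.fix_line hx hcd ha hc hd he

theorem sp_le_Fx [Finite G] {a : X} {x : G} (hx : x ∈ N a) {T : Set X} (hT : ∀ t ∈ T, x • t = t) :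
    ∀ c ∈ sp N T, x • c = c := fun _ hc => sp_le (S.isSub_Fx hx) hT hc

theorem onLine_singleton {a : X} (b : X) (hb : ∀ x ∈ N a, x • b = b) [FaithfulSMul G X] : b = a := by
  by_contra hne
  obtain ⟨v, hv, hvb⟩ := S.exists_moves (Ne.symm hne)
  exact hvb (hb v hv)

/-- the Galois correspondence: a point fixed by all elements of `N a` which fix `T` is in the span of `a` and `T` -/
theorem mem_sp [Finite G] [Finite X] [FaithfulSMul G X] {a : X} (T : Finset X) : ∀ c : X,
    (∀ x ∈ N a, (∀ t ∈ T, x • t = t) → x • c = c) → c ∈ sp N (insert a (T : Set X)) := by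
  classical
  induction T using Finset.induction_on with
  | empty =>
    intro c hc
    have h1 : c = a := S.onLine_singleton c (fun x hx => hc x hx (by simp))
    rw [h1]
    exact subset_sp _ (Set.mem_insert _ _)
  | insert δ T hδT ih =>
    intro ε hε
    by_contra hεS
    have ha' : a ∈ sp N (insert a ((insert δ T : Finset X) : Set X)) := subset_sp _ (Set.mem_insert _ _)
    have hδ' : δ ∈ sp N (insert a ((insert δ T : Finset X) : Set X)) := subset_sp _ (by simp)
    have hmono : sp N (insert a (T : Set X)) ⊆ sp N (insert a ((insert δ T : Finset X) : Set X)) := by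
      apply sp_mono
      apply Set.insert_subset_insert
      rw [Finset.coe_insert]
      exact Set.subset_insert _ _
    by_cases hδ : δ ∈ sp N (insert a (T : Set X))
    · apply hεS
      apply hmono
      apply ih
      intro x hx hxT
      apply hε x hx
      intro t ht
      rcases Finset.mem_insert.1 ht with rfl | ht
      · apply S.sp_le_Fx hx (T := insert a (T : Set X)) _ _ hδ
        rintro s (rfl | hs)
        · exact S.fix _ x hx
        · exact hxT s hs
      · exact hxT t ht
    · have hex : ∃ x ∈ N a, (∀ t ∈ T, x • t = t) ∧ x • δ ≠ δ := by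
        by_contra hno
        push Not at hno
        exact hδ (ih δ hno)
      obtain ⟨x, hx, hxT, hxδ⟩ := hex
      have hδε : δ ≠ ε := by
        rintro rfl
        exact hεS hδ'
      have haδ : δ ≠ a := by
        rintro rfl
        exact hδ (subset_sp _ (Set.mem_insert _ _))
      have hoff : ¬ OnLine N δ ε a := by
        intro h
        apply hεS
        refine isSub_sp _ δ hδ' a ha' haδ ε ?_
        rw [S.onLine_congr hδε haδ S.onLine_left h]
        exact Sys.onLine_right
      obtain ⟨γ, hγ, hxγ⟩ := S.exists_fixed hδε hoff hx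
      have hγa : a ≠ γ := by
        rintro rfl
        exact hoff hγ
      have hγδ : δ ≠ γ := by
        rintro rfl
        exact hxδ hxγ
      obtain ⟨U, hU, hF, hdec⟩ := S.decomp hγa ⟨hx, hxγ⟩ hxδ
      have hγS : γ ∈ sp N (insert a (T : Set X)) := by
        apply ih
        intro w hw hwT
        obtain ⟨u, hu, z, hz, rfl⟩ := hdec w hw
        have huT : ∀ t : X, x • t = t → u • t = t := by
          intro t ht
          by_cases hu1 : u = 1
          · rw [hu1, one_smul]
          · have h1 : t ∈ Fx X x := ht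
            rw [← hF u hu hu1] at h1
            exact h1
        have hzT : ∀ t ∈ T, z • t = t := by
          intro t ht
          have h1 := hwT t ht
          have h2 := huT t (hxT t ht)
          rw [mul_smul] at h1
          have h3 : u • z • t = u • t := h1.trans h2.symm
          exact (smul_left_cancel_iff u).1 h3
        have hzε : z • ε = ε := by
          apply hε z hz.1
          intro t ht
          rcases Finset.mem_insert.1 ht with rfl | ht
          · exact hz.2
          · exact hzT t ht
        have hzγ : z • γ = γ := S.fix_line hz.1 hδε hoff hz.2 hzε hγ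
        rw [mul_smul, hzγ, huT γ hxγ]
      apply hεS
      refine isSub_sp _ δ hδ' γ (hmono hγS) hγδ ε ?_
      rw [S.onLine_congr hδε hγδ S.onLine_left hγ]
      exact Sys.onLine_right

/-- existence of frames -/
theorem exists_frame [Finite G] [Finite X] [FaithfulSMul G X] : ∃ (n : ℕ) (p : Fin n → X), 3 ≤ n ∧ Frame N p := by
  classical
  let _ : Fintype X := Fintype.ofFinite X
  have hex : ∃ m, ∃ T : Finset X, T.card = m ∧ sp N (T : Set X) = Set.univ :=
    ⟨_, Finset.univ, rfl, Set.eq_univ_of_univ_subset (by
      have := subset_sp (N := N) ((Finset.univ : Finset X) : Set X)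
      simpa using this)⟩
  obtain ⟨T, hT, hsp⟩ := Nat.find_spec hex
  have hmin : ∀ T' : Finset X, sp N (T' : Set X) = Set.univ → T.card ≤ T'.card := by
    intro T' h'
    rw [hT]
    exact Nat.find_min' hex ⟨T', rfl, h'⟩
  let e : Fin T.card ≃ T := (T.equivFin).symm
  let p : Fin T.card → X := fun i => (e i).1
  have hpinj : Function.Injective p := fun i j h => e.injective (Subtype.ext h)
  have hrange : Set.range p = (T : Set X) := by
    ext c
    constructor
    · rintro ⟨i, rfl⟩
      exact (e i).2
    · intro hc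
      exact ⟨e.symm ⟨c, hc⟩, by simp [p]⟩
  refine ⟨T.card, p, ?_, ⟨by rw [hrange]; exact hsp, ?_⟩⟩
  · -- at least three points
    by_contra hlt
    obtain ⟨a, b, hab, -⟩ := S.nsr
    -- every set of at most two points is in a line
    have h1 : ∃ c d : X, c ≠ d ∧ (T : Set X) ⊆ {c, d} := by
      have h2 : T.card ≤ 2 := by omega
      have hother : ∀ c : X, ∃ d, c ≠ d := by
        intro c
        by_cases hc : c = a
        · exact ⟨b, by rw [hc]; exact hab⟩
        · exact ⟨a, hc⟩
      rcases Nat.lt_or_ge T.card 2 with h3 | h3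
      · rcases T.eq_empty_or_nonempty with h4 | ⟨c, hc⟩
        · exact ⟨a, b, hab, by rw [h4]; simp⟩
        · obtain ⟨d, hd⟩ := hother c
          refine ⟨c, d, hd, ?_⟩
          intro x hx
          left
          exact Finset.card_le_one.1 (by omega) x hx c hc
      · obtain ⟨c, d, hcd, hTcd⟩ := Finset.card_eq_two.1 (le_antisymm h2 h3)
        refine ⟨c, d, hcd, ?_⟩
        rw [hTcd]
        simp
    obtain ⟨c, d, hcd, hsub⟩ := h1
    obtain ⟨e, he⟩ := S.exists_off hcd
    apply he
    have hline : IsSub N {x | OnLine N c d x} := by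
      intro x hx y hy hxy z hz
      exact (S.onLine_congr hcd hxy hx hy).1 hz
    have h5 : sp N (T : Set X) ⊆ {x | OnLine N c d x} := by
      apply sp_le hline
      intro x hx
      rcases hsub hx with rfl | rfl
      · exact S.onLine_left
      · exact Sys.onLine_right
    rw [hsp] at h5
    exact h5 (Set.mem_univ e)
  · intro j hj
    -- `T` without `p j` still generates
    have hsub : sp N ((T.erase (p j) : Finset X) : Set X) = Set.univ := by
      apply Set.eq_univ_of_univ_subset
      rw [← hsp]
      apply sp_le (isSub_sp _)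
      intro c hc
      by_cases hcj : c = p j
      · rw [hcj]
        apply sp_mono _ hj
        rintro _ ⟨k, hk, rfl⟩
        simp only [Finset.coe_erase, Set.mem_diff, Set.mem_singleton_iff]
        exact ⟨(e k).2, fun h => hk (hpinj h)⟩
      · apply subset_sp
        simp only [Finset.coe_erase, Set.mem_diff, Set.mem_singleton_iff]
        exact ⟨hc, hcj⟩
    have h1 := hmin _ hsub
    have h2 := Finset.card_erase_lt_of_mem (e j).2
    exact absurd h1 (not_le.2 h2)

section frame

variable {ι : Type*} {p : ι → X} (P : Frame N p)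
include P

omit S in
theorem Frame.inj : Function.Injective p := by
  intro i j h
  by_contra hij
  apply P.indep j
  apply subset_sp
  exact ⟨i, hij, h⟩

theorem eq_one_of_fix [Finite G] [FaithfulSMul G X] {a : X} {x : G} (hx : x ∈ N a) (h : ∀ k, x • p k = p k) : x = 1 := by
  apply FaithfulSMul.eq_of_smul_eq_smul (α := X)
  intro c
  rw [one_smul]
  apply S.sp_le_Fx hx (T := Set.range p)
  · rintro _ ⟨k, rfl⟩
    exact h k
  · rw [P.span]
    exact Set.mem_univ c

theorem exists_root [Finite G] [Finite X] [FaithfulSMul G X] [Finite ι] {i j : ι} (hij : i ≠ j) :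
    ∃ x ∈ Xr N p i j, x ≠ 1 := by
  classical
  let _ : Fintype ι := Fintype.ofFinite ι
  by_contra hno
  push Not at hno
  apply P.indep j
  have h1 := S.mem_sp (a := p i) ((Finset.univ.filter (fun k => k ≠ j)).image p) (p j) (by
    intro x hx hxT
    have h2 : x = 1 := by
      apply hno
      refine ⟨hx, fun k hk => hxT _ ?_⟩
      exact Finset.mem_image.2 ⟨k, by simp [hk], rfl⟩
    rw [h2, one_smul])
  apply sp_mono _ h1
  rintro c (rfl | hc)
  · exact ⟨i, hij, rfl⟩
  · obtain ⟨k, hk, rfl⟩ := Finset.mem_image.1 (Finset.mem_coe.1 hc)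
    exact ⟨k, by simpa using hk, rfl⟩

/-- the root groups are transitive on lines -/
theorem root_trans [Finite G] [Finite X] [FaithfulSMul G X] [Finite ι] {i j k : ι} (hij : i ≠ j) (hik : i ≠ k)
    (hjk : j ≠ k) {w : G} (hw : w ∈ N (p i)) : ∃ x ∈ Xr N p i j, x • p j = w • p j := by
  obtain ⟨x, hx, hx1⟩ := S.exists_root P hij
  have hxj : x • p j ≠ p j := by
    intro h
    apply hx1
    apply S.eq_one_of_fix P hx.1
    intro m
    by_cases hm : m = j
    · rw [hm]; exact h
    · exact hx.2 m hm
  have hinj := Frame.inj P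
  obtain ⟨U, hU, hF, hdec⟩ := S.decomp (a := p i) (b := p k) (fun h => hik (hinj h)) ⟨hx.1, hx.2 k hjk.symm⟩ hxj
  obtain ⟨u, hu, z, hz, rfl⟩ := hdec w hw
  refine ⟨u, ⟨hU hu, ?_⟩, ?_⟩
  · intro m hm
    by_cases hu1 : u = 1
    · rw [hu1, one_smul]
    · have h1 : p m ∈ Fx X x := hx.2 m hm
      rw [← hF u hu hu1] at h1
      exact h1
  · rw [mul_smul, hz.2]

end frame

end Ab

end Cfsg.Agent.H360.ON
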