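import Cfsg.Agent.H360.ON.Psl
import Cfsg.Agent.SignalizersComponents.Components
import Cfsg.Agent.SignalizersComponents.IntrinsicDiag

/-!
# O'Nan's theorem

* `genFit_eq` : `F*(A) = N` for a simple normal subgroup `N` with `C(N) = 1`.
* `exists_ab` : the equivariant family of an abelian normal subgroup of the point stabilizer.
* `onan` : the generated normal subgroup is `PSL_n(F)`, `n ≥ 3`, with trivial centralizer.
-/

set_option autoImplicit false

namespace Cfsg.Agent.H360.ON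

open Subgroup MulAction Cfsg Cfsg.Agent.SignalizersComponents

theorem genFit_eq {A : Type*} [Group A] [Finite A] {N : Subgroup A} (hN : N.Normal) (hs : IsSimpleGroup N)
    (hna : ¬ IsMulCommutative N) (hc : centralizer (N : Set A) = ⊥) : generalizedFittingSubgroup A = N := by
  have hNc : IsComponent N := ⟨hN.isSubnormal, IntrinsicDiag.quasisimple_of_simple hs hna⟩
  have hNl : N ≤ layer A := Components.component_le_layer hNc
  have hl : layer A ≤ N := by
    rw [Components.layer_le_iff]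
    intro L hL
    by_contra hne
    have hLN : L ≠ N := fun h => hne (h ▸ le_rfl)
    have h1 := Components.component_le_centralizer_of_ne hL hNc hLN
    rw [hc, le_bot_iff] at h1
    exact Components.component_ne_bot hL h1
  have hf : fittingSubgroup A ≤ N := by
    have h1 : fittingSubgroup A ≤ centralizer (N : Set A) := by
      rw [le_centralizer_iff]
      exact hNl.trans Components.layer_le_centralizer_fitting
    rw [hc, le_bot_iff] at h1
    rw [h1]; exact bot_le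
  exact le_antisymm (sup_le hl hf) (hNl.trans le_sup_left)

variable {G X : Type*} [Group G] [MulAction G X]

/-- the family of conjugates of `N₀ ≤ G_x` -/
def fam (N₀ : Subgroup G) (x a : X) : Subgroup G where
  carrier := {n | ∀ h : G, h • x = a → h⁻¹ * n * h ∈ N₀}
  mul_mem' := by
    intro m n hm hn h hh
    have h1 : h⁻¹ * (m * n) * h = (h⁻¹ * m * h) * (h⁻¹ * n * h) := by group
    rw [h1]
    exact mul_mem (hm h hh) (hn h hh)
  one_mem' := by
    intro h _
    have h1 : h⁻¹ * 1 * h = 1 := by group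
    rw [h1]
    exact one_mem _
  inv_mem' := by
    intro m hm h hh
    have h1 : h⁻¹ * m⁻¹ * h = (h⁻¹ * m * h)⁻¹ := by group
    rw [h1]
    exact inv_mem (hm h hh)

theorem exists_fam (h2 : IsMultiplyPretransitive G X 2) (x : X) (N₀ : Subgroup G) (hle : N₀ ≤ stabilizer G x)
    (hn : ∀ g ∈ stabilizer G x, ∀ n ∈ N₀, g * n * g⁻¹ ∈ N₀)
    (hnsr : ∃ n ∈ N₀, n ≠ 1 ∧ ∃ y : X, y ≠ x ∧ n • y = y) : Fam (fam N₀ x) ∧ fam N₀ x x = N₀ := by
  have htwo : ∀ a b c d : X, a ≠ b → c ≠ d → ∃ g : G, g • a = c ∧ g • b = d := by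
    intro a b c d hab hcd
    exact is_two_pretransitive_iff.1 h2 hab hcd
  obtain ⟨m, hm, hm1, y, hyx, hmy⟩ := hnsr
  have htr : ∀ a : X, ∃ g : G, g • x = a := by
    intro a
    by_cases hax : a = x
    · exact ⟨1, by rw [one_smul, hax]⟩
    · obtain ⟨g, hg, -⟩ := htwo x y a x (Ne.symm hyx) hax
      exact ⟨g, hg⟩
  have hN : fam N₀ x x = N₀ := by
    ext n
    constructor
    · intro h
      have h1 := h 1 (one_smul _ _)
      simpa using h1
    · intro h g hg
      have h1 := hn g⁻¹ (by rw [mem_stabilizer_iff, inv_smul_eq_iff, hg]) n h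
      rwa [inv_inv] at h1
  refine ⟨⟨htwo, ?_, ?_, ?_⟩, hN⟩
  · intro a n hna
    obtain ⟨g, rfl⟩ := htr a
    have h1 := hle (hna g rfl)
    rw [mem_stabilizer_iff, mul_smul, mul_smul, inv_smul_eq_iff] at h1
    exact h1
  · intro g a n hna h hh
    have h1 := hna (g⁻¹ * h) (by rw [mul_smul, hh, inv_smul_smul])
    have h3 : h⁻¹ * (g * n * g⁻¹) * h = (g⁻¹ * h)⁻¹ * n * (g⁻¹ * h) := by group
    rw [h3]
    exact h1
  · exact ⟨x, y, Ne.symm hyx, m, by rw [hN]; exact hm, hm1, hmy⟩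

theorem exists_ab [Finite G] [FaithfulSMul G X] (h2 : IsMultiplyPretransitive G X 2) (x : X) (N₀ : Subgroup G)
    (hle : N₀ ≤ stabilizer G x)
    (hn : ∀ g ∈ stabilizer G x, ∀ n ∈ N₀, g * n * g⁻¹ ∈ N₀) (hab : IsMulCommutative N₀)
    (hnsr : ∃ n ∈ N₀, n ≠ 1 ∧ ∃ y : X, y ≠ x ∧ n • y = y) : Ab (fam N₀ x) := by
  obtain ⟨F, hN⟩ := exists_fam h2 x N₀ hle hn hnsr
  have hc : ∀ a, ∀ m ∈ fam N₀ x a, ∀ n ∈ fam N₀ x a, m * n = n * m := by
    intro a m hm n hna
    obtain ⟨g, hg⟩ : ∃ g : G, g • x = a := by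
      by_cases hax : a = x
      · exact ⟨1, by rw [one_smul, hax]⟩
      · obtain ⟨-, -, -, y, hyx, -⟩ := hnsr
        obtain ⟨g, hg, -⟩ := F.two x y a x (Ne.symm hyx) hax
        exact ⟨g, hg⟩
    have h1 := hm g hg
    have h3 := hna g hg
    have h4 : (g⁻¹ * m * g) * (g⁻¹ * n * g) = (g⁻¹ * n * g) * (g⁻¹ * m * g) :=
      congrArg Subtype.val (hab.is_comm.comm ⟨_, h1⟩ ⟨_, h3⟩)
    have h5 : m * n = g * ((g⁻¹ * m * g) * (g⁻¹ * n * g)) * g⁻¹ := by group
    have h6 : n * m = g * ((g⁻¹ * n * g) * (g⁻¹ * m * g)) * g⁻¹ := by group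
    rw [h5, h6, h4]
  exact ⟨⟨F, F.ti_of_comm hc⟩, hc⟩

/-- **O'Nan's theorem.** -/
theorem onan [Finite G] [Finite X] [FaithfulSMul G X] {N : X → Subgroup G} (S : Ab N) :
    (⨆ a, N a : Subgroup G).Normal ∧ centralizer ((⨆ a, N a : Subgroup G) : Set G) = ⊥ ∧
    IsSimpleGroup ↥(⨆ a, N a : Subgroup G) ∧ ¬ IsMulCommutative ↥(⨆ a, N a : Subgroup G) ∧
    ∃ (F : Type) (_ : Field F) (_ : Fintype F) (n : ℕ), 3 ≤ n ∧
      Nonempty (↥(⨆ a, N a : Subgroup G) ≃* Matrix.ProjectiveSpecialLinearGroup (Fin n) F) := by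
  have hc := S.centralizer_eq_bot
  refine ⟨S.closure_normal, hc, S.restrict.simple S.restrict_gen, ?_, S.restrict.psl S.restrict_gen⟩
  intro h
  obtain ⟨a, b, -, x, hx, hx1, -⟩ := S.nsr
  apply hx1
  have h1 : x ∈ centralizer ((⨆ a, N a : Subgroup G) : Set G) := by
    rw [mem_centralizer_iff]
    intro y hy
    exact congrArg Subtype.val (h.is_comm.comm ⟨y, hy⟩ ⟨x, le_iSup N a hx⟩)
  rw [hc] at h1
  exact mem_bot.1 h1

end Cfsg.Agent.H360.ON
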