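import Cfsg.Agent.H360.ON.Frame
import Cfsg.Agent.AGraded.Coord
import Cfsg.Agent.TitsThree.A2Field

/-!
# The group generated by an abelian family is `PSL_n(F)`, `n ≥ 3`
-/

set_option autoImplicit false

namespace Cfsg.Agent.H360.ON

open Subgroup MulAction
open Cfsg.Agent.AGraded Cfsg.Agent.TitsThree
open scoped commutatorElement

variable {G X : Type*} [Group G] [MulAction G X] {N : X → Subgroup G}

namespace Ab

variable (S : Ab N)
include S

/-- the subgroup generated by the `N a` is normal -/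
theorem closure_normal : (⨆ a, N a).Normal := by
  constructor
  intro x hx g
  have h1 : ∀ a, N a ≤ (⨆ a, N a).comap (MulAut.conj g).toMonoidHom := by
    intro a y hy
    exact (le_iSup N (g • a)) (S.conj g a y hy)
  exact (iSup_le h1) hx

/-- double transitivity of the subgroup generated by the `N a` -/
theorem fix_trans [Finite G] [Finite X] [FaithfulSMul G X] {a b c : X} (hab : a ≠ b) (hac : a ≠ c) :
    ∃ g ∈ (⨆ a, N a : Subgroup G), g • a = a ∧ g • b = c := by
  have hle : ∀ a, N a ≤ (⨆ a, N a : Subgroup G) := le_iSup N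
  by_cases hbc : b = c
  · exact ⟨1, one_mem _, one_smul _ _, by rw [one_smul, hbc]⟩
  by_cases hl : OnLine N a b c
  · obtain ⟨x, hx, hxb⟩ := S.trans hab hl hac.symm
    exact ⟨x, hle a hx, S.fix a x hx, hxb⟩
  · obtain ⟨e, he, heb, hec⟩ := S.exists_third hbc
    have hea : e ≠ a := by
      rintro rfl
      apply hl
      rw [S.onLine_congr hbc hab he S.onLine_left]
      exact Sys.onLine_right
    have hnl : ¬ OnLine N e a b := by
      intro h
      apply hl
      have h1 : OnLine N b c a := by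
        rw [← S.onLine_congr hbc heb he S.onLine_left, S.onLine_congr hea heb S.onLine_left h]
        exact Sys.onLine_right
      rw [S.onLine_congr hbc hab h1 S.onLine_left]
      exact Sys.onLine_right
    have hc : OnLine N e b c := by
      rw [S.onLine_congr hbc heb he S.onLine_left]
      exact Sys.onLine_right
    obtain ⟨w, hw, hwb⟩ := S.trans heb hc (Ne.symm hec)
    obtain ⟨y, hy, hyb⟩ := S.exists_same hea hnl hw
    exact ⟨y, hle e hy.1, hy.2, by rw [hyb, hwb]⟩

theorem two_trans [Finite G] [Finite X] [FaithfulSMul G X] {a b c d : X} (hab : a ≠ b) (hcd : c ≠ d) :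
    ∃ g ∈ (⨆ a, N a : Subgroup G), g • a = c ∧ g • b = d := by
  have hle : ∀ a, N a ≤ (⨆ a, N a : Subgroup G) := le_iSup N
  have h1 : ∃ g ∈ (⨆ a, N a : Subgroup G), g • a = c := by
    by_cases hac : a = c
    · exact ⟨1, one_mem _, by rw [one_smul, hac]⟩
    · obtain ⟨e, he, hea, hec⟩ := S.exists_third hac
      obtain ⟨w, hw, hwa⟩ := S.trans hea (by
        rw [S.onLine_congr hac hea he S.onLine_left]
        exact Sys.onLine_right) (Ne.symm hec)
      exact ⟨w, hle e hw, hwa⟩
  obtain ⟨g, hg, hga⟩ := h1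
  have h2 : c ≠ g • b := by
    rw [← hga]
    intro h
    exact hab ((smul_left_cancel_iff g).1 h)
  obtain ⟨k, hk, hkc, hkb⟩ := S.fix_trans h2 hcd
  exact ⟨k * g, mul_mem hk hg, by rw [mul_smul, hga, hkc], by rw [mul_smul, hkb]⟩

/-- restriction to the generated subgroup -/
theorem restrict [Finite G] [Finite X] [FaithfulSMul G X] :
    Ab (G := ↥(⨆ a, N a : Subgroup G)) (X := X) (fun a => (N a).subgroupOf (⨆ a, N a)) := by
  refine ⟨⟨⟨?_, ?_, ?_, ?_⟩, ?_⟩, ?_⟩
  · intro a b c d hab hcd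
    obtain ⟨g, hg, h1, h2⟩ := S.two_trans hab hcd
    exact ⟨⟨g, hg⟩, h1, h2⟩
  · intro a x hx
    exact S.fix a x.1 hx
  · intro g a x hx
    exact S.conj g.1 a x.1 hx
  · obtain ⟨a, b, hab, x, hx, hx1, hxb⟩ := S.nsr
    exact ⟨a, b, hab, ⟨x, le_iSup N a hx⟩, hx, fun h => hx1 (congrArg Subtype.val h), hxb⟩
  · intro a b hab x hx hx'
    exact Subtype.ext (S.ti a b hab x.1 hx hx')
  · intro a x hx y hy
    exact Subtype.ext (S.comm a x.1 hx y.1 hy)

theorem restrict_gen : (⨆ a, (N a).subgroupOf (⨆ a, N a : Subgroup G)) = ⊤ := by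
  rw [eq_top_iff]
  rintro ⟨x, hx⟩ -
  have h1 : (⨆ a, N a : Subgroup G) ≤
      (⨆ a, (N a).subgroupOf (⨆ a, N a : Subgroup G)).map (Subgroup.subtype _) := by
    apply iSup_le
    intro a y hy
    exact ⟨⟨y, le_iSup N a hy⟩, (le_iSup (fun a => (N a).subgroupOf (⨆ a, N a : Subgroup G)) a) hy, rfl⟩
  obtain ⟨y, hy, hyx⟩ := h1 hx
  have : y = ⟨x, hx⟩ := Subtype.ext hyx
  rw [← this]
  exact hy

/-- an element centralizing the generated subgroup is trivial -/
theorem centralizer_eq_bot [Finite G] [Finite X] [FaithfulSMul G X] :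
    centralizer ((⨆ a, N a : Subgroup G) : Set G) = ⊥ := by
  rw [eq_bot_iff]
  intro z hz
  rw [mem_bot]
  apply FaithfulSMul.eq_of_smul_eq_smul (α := X)
  intro a
  rw [one_smul]
  have hex : ∃ b, a ≠ b := by
    obtain ⟨c, d, hcd, -⟩ := S.nsr
    by_cases h : a = c
    · exact ⟨d, by rw [h]; exact hcd⟩
    · exact ⟨c, h⟩
  obtain ⟨b, hab⟩ := hex
  obtain ⟨x, hx, hx1⟩ := S.exists_ne_one hab
  apply S.cent hx.1 hx1
  exact (mem_centralizer_iff.1 hz x (le_iSup N a hx.1)).symm

section frame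

variable {ι : Type*} {p : ι → X} (P : Frame N p)
include P

theorem graded [Finite G] [Finite X] [FaithfulSMul G X] [Finite ι] : Graded (Xr N p) := by
  have hinj := Frame.inj P
  constructor
  · intro i j k l hij hkl hjk hil a ha b hb
    by_cases hik : i = k
    · subst hik
      exact S.comm _ a ha.1 b hb.1
    · exact S.comm_AB (fun h => hik (hinj h)) ⟨ha.1, ha.2 k (Ne.symm hjk)⟩ ⟨hb.1, hb.2 i hil⟩
  · intro i j k hij hjk hik a ha b hb
    rw [commutatorElement_def]
    have h1 := S.br_mem (a := p i) (b := p j) (fun h => hij (hinj h)) ha.1 ⟨hb.1, hb.2 i hik⟩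
    refine ⟨h1.1, fun m hm => ?_⟩
    by_cases hmj : m = j
    · rw [hmj]; exact h1.2
    · have ha' : a • p m = p m := ha.2 m hmj
      have hb' : b • p m = p m := hb.2 m hm
      have ha'' : a⁻¹ • p m = p m := by rw [inv_smul_eq_iff, ha']
      have hb'' : b⁻¹ • p m = p m := by rw [inv_smul_eq_iff, hb']
      rw [mul_smul, hb'', mul_smul, ha'', mul_smul, hb', ha']
  · intro i j k hij hjk hik a ha b hb ha1 hb1
    rw [commutatorElement_def]
    refine S.br_ne_one (a := p i) (b := p j) ?_ ⟨hb.1, hb.2 i hik⟩ hb1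
    intro h
    apply ha1
    apply S.eq_one_of_fix P ha.1
    intro m
    by_cases hm : m = j
    · rw [hm]; exact h
    · exact ha.2 m hm
  · intro i j hij
    exact S.exists_root P hij

/-- an element permuting the frame permutes the root groups -/
theorem conj_root {n : G} {σ : Equiv.Perm ι} (hn : ∀ k, n • p k = p (σ k)) {k l : ι} {c : G} (hc : c ∈ Xr N p k l) :
    n * c * n⁻¹ ∈ Xr N p (σ k) (σ l) := by
  constructor
  · rw [← hn]
    exact S.conj n _ c hc.1
  · intro m hm
    have h1 : n⁻¹ • p m = p (σ.symm m) := by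
      rw [inv_smul_eq_iff, hn, Equiv.apply_symm_apply]
    rw [mul_smul, mul_smul, h1, hc.2, hn, Equiv.apply_symm_apply]
    intro h
    apply hm
    rw [← h, Equiv.apply_symm_apply]

theorem rgd [Finite G] [Finite X] [FaithfulSMul G X] [Finite ι] (h3 : ∀ i j : ι, ∃ k, i ≠ k ∧ j ≠ k) :
    A2Refl.Rgd (Xr N p) := by
  classical
  have hinj := Frame.inj P
  intro i j hij a ha ha1
  have hpij : p i ≠ p j := fun h => hij (hinj h)
  have haj : a • p j ≠ p j := by
    intro h
    apply ha1
    apply S.eq_one_of_fix P ha.1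
    intro m
    by_cases hm : m = j
    · rw [hm]; exact h
    · exact ha.2 m hm
  obtain ⟨k, hik, hjk⟩ := h3 i j
  have hai : a • p i = p i := S.fix _ a ha.1
  -- `y` with `y • a • p j = p i`
  have key : ∀ e, OnLine N (p i) (p j) e → e ≠ p j → ∃ y ∈ Xr N p j i, y • p i = e := by
    intro e he hej
    obtain ⟨w, hw, hwe⟩ := S.trans hpij.symm (S.onLine_swap hpij he) hej
    obtain ⟨y, hy, hyi⟩ := S.root_trans P (i := j) (j := i) (k := k) hij.symm hjk hik hw
    exact ⟨y, hy, by rw [hyi, hwe]⟩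
  obtain ⟨z, hz, hze⟩ := key (a • p j) (S.pres ha.1 Sys.onLine_right) haj
  obtain ⟨y', hy', hye'⟩ := key (a⁻¹ • p j) (S.pres (inv_mem ha.1) Sys.onLine_right) (by
    intro h
    rw [inv_smul_eq_iff] at h
    exact haj h.symm)
  have hy : z⁻¹ ∈ Xr N p j i := inv_mem hz
  refine ⟨z⁻¹, hy, y', hy', ?_⟩
  have hn : ∀ m, (z⁻¹ * a * y') • p m = p (Equiv.swap i j m) := by
    intro m
    by_cases hmi : m = i
    · subst hmi
      rw [Equiv.swap_apply_left, mul_smul, hye', mul_smul, smul_inv_smul]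
      exact S.fix _ _ hy.1
    · by_cases hmj : m = j
      · subst hmj
        rw [Equiv.swap_apply_right, mul_smul, S.fix _ y' hy'.1, mul_smul, ← hze, inv_smul_smul]
      · rw [Equiv.swap_apply_of_ne_of_ne hmi hmj, mul_smul, hy'.2 m hmi, mul_smul, ha.2 m hmj, hy.2 m hmi]
  have hc : ∀ k l, ∀ c ∈ Xr N p k l, (z⁻¹ * a * y') * c * (z⁻¹ * a * y')⁻¹ ∈
      Xr N p (Equiv.swap i j k) (Equiv.swap i j l) := fun k l c hc => S.conj_root P hn hc
  refine ⟨?_, ?_, ?_, ?_, ?_, ?_⟩
  · intro c hc'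
    have := hc i j c hc'
    rwa [Equiv.swap_apply_left, Equiv.swap_apply_right] at this
  · intro c hc'
    have := hc j i c hc'
    rwa [Equiv.swap_apply_left, Equiv.swap_apply_right] at this
  · intro k hki hkj c hc'
    have := hc i k c hc'
    rwa [Equiv.swap_apply_left, Equiv.swap_apply_of_ne_of_ne hki hkj] at this
  · intro k hki hkj c hc'
    have := hc j k c hc'
    rwa [Equiv.swap_apply_right, Equiv.swap_apply_of_ne_of_ne hki hkj] at this
  · intro k hki hkj c hc'
    have := hc k i c hc'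
    rwa [Equiv.swap_apply_left, Equiv.swap_apply_of_ne_of_ne hki hkj] at this
  · intro k hki hkj c hc'
    have := hc k j c hc'
    rwa [Equiv.swap_apply_right, Equiv.swap_apply_of_ne_of_ne hki hkj] at this

/-- the root groups generate -/
theorem gen [Finite G] [Finite X] [FaithfulSMul G X] [Finite ι] (h3 : ∀ i j : ι, ∃ k, i ≠ k ∧ j ≠ k)
    {K : Subgroup G} (hK : ∀ i j, i ≠ j → Xr N p i j ≤ K) : ∀ a, N a ≤ K := by
  classical
  let _ : Fintype ι := Fintype.ofFinite ι
  have hinj := Frame.inj P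
  -- `N (p i) ≤ K`
  have h1 : ∀ i, N (p i) ≤ K := by
    intro i w hw
    have h2 : ∀ s : Finset ι, i ∉ s → ∃ x ∈ K, x ∈ N (p i) ∧ (∀ j ∈ s, x • p j = w • p j) ∧
        ∀ j, j ∉ s → x • p j = p j := by
      intro s
      induction s using Finset.induction_on with
      | empty => exact fun _ => ⟨1, one_mem _, one_mem _, by simp, fun j _ => one_smul _ _⟩
      | insert j s hj ih =>
        intro his
        obtain ⟨x, hxK, hxN, hxs, hxs'⟩ := ih (fun h => his (Finset.mem_insert_of_mem h))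
        have hij : i ≠ j := by
          rintro rfl
          exact his (Finset.mem_insert_self _ _)
        obtain ⟨k, hik, hjk⟩ := h3 i j
        obtain ⟨y, hy, hyj⟩ := S.root_trans P hij hik hjk hw
        refine ⟨y * x, mul_mem (hK i j hij hy) hxK, mul_mem hy.1 hxN, ?_, ?_⟩
        · intro m hm
          rcases Finset.mem_insert.1 hm with rfl | hm'
          · rw [mul_smul, hxs' m hj, hyj]
          · have hmj : m ≠ j := fun h => hj (h ▸ hm')
            rw [S.comm _ y hy.1 x hxN, mul_smul, hy.2 m hmj, hxs m hm']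
        · intro m hm
          rw [mul_smul, hxs' m (fun h => hm (Finset.mem_insert_of_mem h)), hy.2 m (by
            rintro rfl
            exact hm (Finset.mem_insert_self _ _))]
    obtain ⟨x, hxK, hxN, hxs, -⟩ := h2 (Finset.univ.erase i) (by simp)
    have h3 : x⁻¹ * w = 1 := by
      apply S.eq_one_of_fix P (mul_mem (inv_mem hxN) hw)
      intro m
      by_cases hm : m = i
      · rw [hm]
        exact S.fix _ _ (mul_mem (inv_mem hxN) hw)
      · rw [mul_smul, ← hxs m (by simp [hm]), inv_smul_smul]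
    rw [inv_mul_eq_one] at h3
    rw [← h3]
    exact hxK
  -- the set of points `a` with `N a ≤ K` is a subspace
  have h2 : IsSub N {a | N a ≤ K} := by
    intro a ha b hb hab c hc
    by_cases hca : c = a
    · rw [hca]; exact ha
    · obtain ⟨x, hx, hxb⟩ := S.trans hab hc hca
      intro y hy
      have h3 : x⁻¹ * y * x ∈ N b := by
        have h4 := S.conj x⁻¹ c y hy
        rw [← hxb, inv_smul_smul, inv_inv] at h4
        exact h4
      have h5 : y = x * (x⁻¹ * y * x) * x⁻¹ := by group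
      rw [h5]
      exact mul_mem (mul_mem (ha hx) (hb h3)) (inv_mem (ha hx))
  have h4 : sp N (Set.range p) ⊆ {a | N a ≤ K} := by
    apply sp_le h2
    rintro _ ⟨i, rfl⟩
    exact h1 i
  rw [P.span] at h4
  exact fun a => h4 (Set.mem_univ a)

/-- the order of the root groups -/
theorem card_root [Finite G] [Finite X] [FaithfulSMul G X] [Finite ι] (h3 : ∀ i j : ι, ∃ k, i ≠ k ∧ j ≠ k)
    {q : ℕ} (hq : ∀ a b : X, a ≠ b →
      Nat.card {c : X // ∃ x ∈ N a, x • b = c} = q ∧ Nat.card (N a) = q * Nat.card (A N a b)) {i j : ι} (hij : i ≠ j) :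
    Nat.card (Xr N p i j) = q := by
  have hinj := Frame.inj P
  rw [← (hq (p i) (p j) (fun h => hij (hinj h))).1]
  obtain ⟨k, hik, hjk⟩ := h3 i j
  refine Nat.card_congr (Equiv.ofBijective (fun x => ⟨x.1 • p j, x.1, x.2.1, rfl⟩) ⟨?_, ?_⟩)
  · intro x y h
    have h1 : x.1 • p j = y.1 • p j := congrArg Subtype.val h
    have h2 : y.1⁻¹ * x.1 = 1 := by
      apply S.eq_one_of_fix P (mul_mem (inv_mem y.2.1) x.2.1)
      intro m
      by_cases hm : m = j
      · rw [hm, mul_smul, h1, inv_smul_smul]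
      · rw [mul_smul, x.2.2 m hm, inv_smul_eq_iff, y.2.2 m hm]
    exact Subtype.ext (inv_mul_eq_one.1 h2).symm
  · rintro ⟨e, w, hw, rfl⟩
    obtain ⟨x, hx, hxj⟩ := S.root_trans P hij hik hjk hw
    exact ⟨⟨x, hx⟩, Subtype.ext hxj⟩

/-- the root groups are in the commutator subgroup -/
theorem root_le_commutator [Finite G] [Finite X] [FaithfulSMul G X] [Finite ι]
    (h3 : ∀ i j : ι, ∃ k, i ≠ k ∧ j ≠ k) {i j : ι} (hij : i ≠ j) : Xr N p i j ≤ commutator G := by
  have hg := S.graded P
  obtain ⟨q, hq2, hq⟩ := S.exists_q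
  obtain ⟨k, hik, hjk⟩ := h3 i j
  obtain ⟨b, hb, hb1⟩ := hg.ne_bot k j hjk.symm
  -- `a ↦ ⁅a, b⁆` is injective from `X i k` to `X i j`
  let f : Xr N p i k → Xr N p i j := fun a => ⟨⁅a.1, b⁆, hg.br_mem i k j hik hjk.symm hij a.1 a.2 b hb⟩
  have hf : Function.Injective f := by
    intro a a' h
    have h1 : ⁅a.1, b⁆ = ⁅a'.1, b⁆ := congrArg Subtype.val h
    by_contra hne
    have hz : a.1⁻¹ * a'.1 ∈ Xr N p i k := mul_mem (inv_mem a.2) a'.2
    have hz1 : a.1⁻¹ * a'.1 ≠ 1 := fun h2 => hne (Subtype.ext (inv_mul_eq_one.1 h2))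
    apply hg.br_ne i k j hik hjk.symm hij _ hz b hb hz1 hb1
    have h2 := hg.br_mul_left hik hjk.symm hij a.2 hz hb
    have h4 : a.1 * (a.1⁻¹ * a'.1) = a'.1 := by group
    rw [h4, ← h1] at h2
    exact mul_eq_left.1 h2.symm
  have hcard : Nat.card (Xr N p i k) = Nat.card (Xr N p i j) := by
    rw [S.card_root P h3 hq hik, S.card_root P h3 hq hij]
  have hsurj := ((Nat.bijective_iff_injective_and_card f).2 ⟨hf, hcard⟩).2
  intro x hx
  obtain ⟨a, ha⟩ := hsurj ⟨x, hx⟩
  have h1 : ⁅a.1, b⁆ = x := congrArg Subtype.val ha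
  rw [← h1]
  exact commutator_mem_commutator (mem_top _) (mem_top _)

end frame

/-- the generated group is simple -/
theorem simple [Finite G] [Finite X] [FaithfulSMul G X] (hgen : (⨆ a, N a) = ⊤) : IsSimpleGroup G := by
  classical
  obtain ⟨n, p, hn, P⟩ := S.exists_frame
  have h3 : ∀ i j : Fin n, ∃ k, i ≠ k ∧ j ≠ k := by
    intro i j
    have h4 : (({i, j} : Finset (Fin n))ᶜ).Nonempty := by
      rw [← Finset.card_pos, Finset.card_compl, Fintype.card_fin]
      have := Finset.card_le_two (a := i) (b := j)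
      omega
    obtain ⟨k, hk⟩ := h4
    simp only [Finset.mem_compl, Finset.mem_insert, Finset.mem_singleton, not_or] at hk
    exact ⟨k, fun h => hk.1 h.symm, fun h => hk.2 h.symm⟩
  have hperf : commutator G = ⊤ := by
    rw [eq_top_iff, ← hgen]
    exact iSup_le (S.gen P h3 (fun i j hij => S.root_le_commutator P h3 hij))
  obtain ⟨a, b, hab, x, hx, hx1, -⟩ := S.nsr
  have hnt : Nontrivial G := ⟨⟨x, 1, hx1⟩⟩
  have hntX : Nontrivial X := ⟨⟨a, b, hab⟩⟩
  have h2 : IsMultiplyPretransitive G X 2 := by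
    rw [is_two_pretransitive_iff]
    intro a b c d hab hcd
    exact S.two a b c d hab hcd
  have hprim : IsPreprimitive G X := isPreprimitive_of_is_two_pretransitive h2
  exact IwasawaStructure.isSimpleGroup (α := X) hperf
    { T := N
      is_comm := fun a => ⟨⟨fun x y => Subtype.ext (S.comm a x.1 x.2 y.1 y.2)⟩⟩
      is_conj := fun g a => (S.map_N g a).symm
      is_generator := hgen } inferInstance

/-- **Recognition.** -/
theorem psl [Finite G] [Finite X] [FaithfulSMul G X] (hgen : (⨆ a, N a) = ⊤) :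
    ∃ (F : Type) (_ : Field F) (_ : Fintype F) (n : ℕ), 3 ≤ n ∧
      Nonempty (G ≃* Matrix.ProjectiveSpecialLinearGroup (Fin n) F) := by
  classical
  have hsimple := S.simple hgen
  obtain ⟨n, p, hn, P⟩ := S.exists_frame
  have h3 : ∀ i j : Fin n, ∃ k, i ≠ k ∧ j ≠ k := by
    intro i j
    have h4 : (({i, j} : Finset (Fin n))ᶜ).Nonempty := by
      rw [← Finset.card_pos, Finset.card_compl, Fintype.card_fin]
      have := Finset.card_le_two (a := i) (b := j)
      omega
    obtain ⟨k, hk⟩ := h4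
    simp only [Finset.mem_compl, Finset.mem_insert, Finset.mem_singleton, not_or] at hk
    exact ⟨k, fun h => hk.1 h.symm, fun h => hk.2 h.symm⟩
  have hg := S.graded P
  have hgK : ∀ K : Subgroup G, (∀ i j, i ≠ j → Xr N p i j ≤ K) → K = ⊤ := by
    intro K hK
    rw [eq_top_iff, ← hgen]
    exact iSup_le (S.gen P h3 hK)
  rcases Nat.lt_or_ge n 4 with h4 | h4
  · have hn3 : n = 3 := by omega
    subst hn3
    obtain ⟨F, i1, i2, x, hx, hX⟩ := A2Field.exists_field hg (S.rgd P h3)
    refine ⟨F, i1, i2, 3, le_rfl, nonempty_psl hx (by simp) ?_⟩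
    apply hgK
    intro i j hij y hy
    obtain ⟨a, ha, -⟩ := (hX i j hij).2 y hy
    exact subset_closure ⟨i, j, hij, a, ha.symm⟩
  · obtain ⟨F, i1, i2, -, -, h⟩ := hg.exists_psl (by simpa using h4) hgK
    exact ⟨F, i1, i2, n, hn, h⟩

end Ab

end Cfsg.Agent.H360.ON
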